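import Groth.Agent.Lib.CurveMult.H1Bound
import Groth.Agent.Lib.CurveRR.Setup
import Groth.Agent.Lib.Snapper.Positive
import Groth.Agent.Lib.IdealModSec.Basic
import Groth.Agent.Lib.Ample.Generation
import Groth.Agent.Lib.Euler.Coh

/-!
# Dropping one section by a one-dimensional skyscraper quotient
-/

universe u

set_option backward.isDefEq.respectTransparency false
set_option linter.all false

open CategoryTheory CategoryTheory.Limits AlgebraicGeometry TopologicalSpace Opposite
open GrothLib.QCoh (stalkLin)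

noncomputable section

namespace GrothLib.CurveTwist26

variable {X : Scheme.{u}} (k : Type u) [Field k] [X.Over (Spec (CommRingCat.of k))]
  [IsProper (X ↘ Spec (CommRingCat.of k))]

include k in
/-- Dimensions in a short exact sequence with one-dimensional quotient, surjective on sections. -/
theorem finrank_add_one {S : ShortComplex X.Modules} (hS : S.ShortExact) (h₂ : Coh.IsCoh S.X₂)
    (hQ : Module.finrank k (Coh.HH X S.X₃ 0) = 1) (hsurj : Function.Surjective (Cohom.hhMap k S.g 0)) :
    Module.finrank k (Coh.HH X S.X₂ 0) = Module.finrank k (Coh.HH X S.X₁ 0) + 1 := by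
  haveI := Euler.isNoetherian_of_proper (X := X) k
  haveI := Euler.finiteDimensional_HH k h₂ 0
  have h := (Cohom.hhMap k S.g 0).finrank_range_add_finrank_ker
  rw [LinearMap.range_eq_top.2 hsurj, finrank_top, hQ,
    LinearMap.exact_iff.1 (Cohom.exact₂ (A := k) hS 0),
    LinearMap.finrank_range_of_inj (Euler.hhMap_zero_injective (A := k) hS)] at h
  omega

include k in
/-- If the kernel is non-special then so is the middle term, with one more section. -/
theorem raise_one {S : ShortComplex X.Modules} (hS : S.ShortExact) (h₂ : Coh.IsCoh S.X₂) {x : X}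
    (hxc : IsClosed ({x} : Set X)) (hsupp : CohB1.support S.X₃ ⊆ {x})
    (hQ : Module.finrank k (Coh.HH X S.X₃ 0) = 1) (h1 : Subsingleton (Coh.HH X S.X₁ 1)) :
    Subsingleton (Coh.HH X S.X₂ 1) ∧
      Module.finrank k (Coh.HH X S.X₂ 0) = Module.finrank k (Coh.HH X S.X₁ 0) + 1 := by
  haveI := Euler.subsingleton_HH_of_finite_support S.X₃ ((Set.finite_singleton x).subset hsupp)
    (fun y hy => (hsupp hy : y = x) ▸ hxc) 1 le_rfl
  constructor
  · refine subsingleton_of_forall_eq 0 fun w => ?_
    obtain ⟨y, rfl⟩ := (Cohom.exact₂ (A := k) hS 1 w).1 (Subsingleton.elim _ _)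
    rw [@Subsingleton.elim _ h1 y 0, map_zero]
  · exact finrank_add_one k hS h₂ hQ fun w =>
      (Cohom.exact₃ (A := k) hS 0 w).1 (@Subsingleton.elim _ h1 _ _)

include k in
/-- If a section generates at the point then the kernel of a non-special module is non-special. -/
theorem drop_one {S : ShortComplex X.Modules} (hS : S.ShortExact) (h₂ : Coh.IsCoh S.X₂) {x : X}
    (hxc : IsClosed ({x} : Set X)) (hsupp : CohB1.support S.X₃ ⊆ {x})
    (hQ : Module.finrank k (Coh.HH X S.X₃ 0) = 1) (h1 : Subsingleton (Coh.HH X S.X₂ 1))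
    (z : Coh.HH X S.X₂ 0) (hx : x ∈ CohB1.genLocus S.X₂ (FinCov.homOfSection (ProjCoh.H0top S.X₂ z))) :
    Subsingleton (Coh.HH X S.X₁ 1) ∧
      Module.finrank k (Coh.HH X S.X₂ 0) = Module.finrank k (Coh.HH X S.X₁ 0) + 1 := by
  let s := FinCov.homOfSection (ProjCoh.H0top S.X₂ z)
  have hsval : s.app ⊤ (FinCov.one X ⊤) = ProjCoh.H0top S.X₂ z :=
    (FinCov.homOfSection_one _ ⊤).trans (InvExt.mres_self S.X₂ _)
  haveI := hS.epi_g
  have himg : Cohom.hhMap k S.g 0 z ≠ 0 := by
    intro h
    have h1 : S.g.app ⊤ (ProjCoh.H0top S.X₂ z) = 0 := by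
      have h2 : ProjCoh.H0top S.X₃ (Cohom.hhMap k S.g 0 z) = S.g.app ⊤ (ProjCoh.H0top S.X₂ z) :=
        ProjCoh.H0top_map _ z
      rw [← h2, h, map_zero]
    have hzero : ∀ v : S.X₂.presheaf.stalk x, stalkLin S.g x v = 0 := by
      intro v
      obtain ⟨w, rfl⟩ := (Snapper.stalk_bijective_of_mem_genLocus s hx).2 v
      obtain ⟨U, hU, r, rfl⟩ := TopCat.Presheaf.exists_germ_eq (Coh.structureModule X).presheaf w
      rw [QCoh.stalkLin_germ, QCoh.stalkLin_germ]
      have h2 : r = (show Γ(X, U) from r) • InvExt.mres (Coh.structureModule X) (le_top : U ≤ ⊤) (FinCov.one X ⊤) := by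
        show r = (show Γ(X, U) from r) * (X.presheaf.map (homOfLE (le_top : U ≤ ⊤)).op).hom 1
        rw [map_one, mul_one]
      rw [h2, Ample.app_smul, Ample.app_smul, Ample.app_mres, Ample.app_mres, hsval, h1]
      rw [show InvExt.mres S.X₃ (le_top : U ≤ ⊤) 0 = 0 from map_zero _, smul_zero, map_zero]
    haveI : Subsingleton (Coh.HH X S.X₃ 0) := subsingleton_of_forall_eq 0 fun w =>
      (ProjCoh.H0top _).injective ((Euler.bijective_germs _ ((Set.finite_singleton x).subset hsupp)
        (fun y hy => (hsupp hy : y = x) ▸ hxc)).1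
        (funext fun y => by
          obtain ⟨y, hy⟩ := y
          obtain rfl : y = x := hsupp hy
          haveI : Subsingleton (S.X₃.presheaf.stalk y) :=
            subsingleton_of_forall_eq 0 fun v => by
              obtain ⟨v', rfl⟩ := QCoh.stalkLin_surjective S.g y v
              exact hzero v'
          exact Subsingleton.elim _ _))
    rw [Module.finrank_zero_of_subsingleton] at hQ
    omega
  have hsurj : Function.Surjective (Cohom.hhMap k S.g 0) := by
    intro w
    obtain ⟨a, ha⟩ := exists_smul_eq_of_finrank_eq_one hQ himg w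
    exact ⟨a • z, by rw [map_smul, ha]⟩
  refine ⟨subsingleton_of_forall_eq 0 fun w => ?_, finrank_add_one k hS h₂ hQ hsurj⟩
  obtain ⟨y, rfl⟩ := (Cohom.exact₁ (A := k) hS 0 w).1 (@Subsingleton.elim _ h1 _ _)
  obtain ⟨y', rfl⟩ := hsurj y
  exact (Cohom.exact₃ (A := k) hS 0 _).2 ⟨y', rfl⟩

end GrothLib.CurveTwist26
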