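import Groth.Agent.Lib.CurveTwist26.Drop
import Groth.Agent.Lib.CurveMult.RationalPoint
import Groth.Agent.Lib.CurveMult.SepRat
import Groth.Agent.Lib.CurveMult.DegBound
import Groth.Agent.Lib.CurveLocus.Basic
import Groth.Agent.Lib.EulerPull.Basic
import Groth.Agent.Lib.QCoh.SupportPullback
import Groth.Agent.Lib.Euler.CurveVanish
import Groth.Agent.Lib.Euler.AmpleExists
import Groth.Agent.Lib.Euler.AmpleComponents
import Groth.Agent.Lib.HilbFlat10.Main
import Groth.Agent.Lib.Cube.Pic
import Groth.Agent.Lib.Cube.AmpleCrit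
import Groth.Agent.Lib.Rigidity.SmoothGroup
import Groth.Agent.Lib.ModDesc.Approx
import Mathlib.AlgebraicGeometry.Morphisms.UniversallyOpen

/-!
# Twisting by rational points of a curve over a separably closed field
-/

universe u

set_option backward.isDefEq.respectTransparency false
set_option linter.all false

open CategoryTheory CategoryTheory.Limits AlgebraicGeometry TopologicalSpace Opposite
open GrothLib.Euler (tF)
open GrothLib.Cube (clsMod)

noncomputable section

namespace GrothLib.CurveTwist26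

variable {k K : Type u} [Field k] [Field K] [Algebra k K] {X XK : Scheme.{u}}
  [X.Over (Spec (CommRingCat.of k))] [XK.Over (Spec (CommRingCat.of K))]
  {g : XK ⟶ X}
  (hpb : IsPullback g (XK ↘ Spec (CommRingCat.of K)) (X ↘ Spec (CommRingCat.of k))
    (Spec.map (CommRingCat.ofHom (algebraMap k K))))

include hpb in
/-- The fibre over a rational point is one closed point. -/
theorem exists_fibre [IsProper (XK ↘ Spec (CommRingCat.of K))] (t : Spec (CommRingCat.of k) ⟶ X)
    (ht : t ≫ (X ↘ Spec (CommRingCat.of k)) = 𝟙 _) :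
    ∃ y : XK, IsClosed ({y} : Set XK) ∧ g ⁻¹' Set.range t = {y} := by
  let τ := Spec.map (CommRingCat.ofHom (algebraMap k K))
  let s : Spec (CommRingCat.of K) ⟶ XK := hpb.lift (τ ≫ t) (𝟙 _) (by
    rw [Category.assoc, ht, Category.comp_id, Category.id_comp])
  have hs1 : s ≫ g = τ ≫ t := hpb.lift_fst _ _ _
  have hs2 : s ≫ (XK ↘ Spec (CommRingCat.of K)) = 𝟙 _ := hpb.lift_snd _ _ _
  haveI : Subsingleton ↥(Spec (CommRingCat.of K)) := inferInstanceAs (Subsingleton (PrimeSpectrum K))
  let z : ↥(Spec (CommRingCat.of K)) := IsLocalRing.closedPoint K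
  haveI : IsClosedImmersion (s ≫ (XK ↘ Spec (CommRingCat.of K))) := by rw [hs2]; infer_instance
  haveI : IsClosedImmersion s := .of_comp s (XK ↘ Spec (CommRingCat.of K))
  refine ⟨s z, ?_, ?_⟩
  · have := s.isClosedEmbedding.isClosedMap _ (isClosed_discrete {z})
    rwa [Set.image_singleton] at this
  · ext y
    constructor
    · intro hy
      let a := pullback.fst g t
      let b := pullback.snd g t
      have hab : a ≫ g = b ≫ t := pullback.condition
      have hb : b = a ≫ (XK ↘ Spec (CommRingCat.of K)) ≫ τ := by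
        rw [← hpb.w, ← Category.assoc, hab, Category.assoc, ht, Category.comp_id]
      have ha : a = (a ≫ (XK ↘ Spec (CommRingCat.of K))) ≫ s := by
        apply hpb.hom_ext
        · rw [Category.assoc, Category.assoc, hs1, hab, hb]
          simp only [Category.assoc]
        · rw [Category.assoc, Category.assoc, hs2, Category.comp_id]
      have hya : y ∈ Set.range a := by
        rw [Scheme.Pullback.range_fst]
        exact hy
      obtain ⟨w, rfl⟩ := hya
      rw [ha, Scheme.Hom.comp_apply, Set.mem_singleton_iff]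
      exact congrArg s (Subsingleton.elim _ _)
    · rintro rfl
      refine ⟨τ z, ?_⟩
      rw [← Scheme.Hom.comp_apply, ← Scheme.Hom.comp_apply, hs1]

variable [IsProper (X ↘ Spec (CommRingCat.of k))] [Smooth (X ↘ Spec (CommRingCat.of k))] [IsIntegral X]
  [IsProper (XK ↘ Spec (CommRingCat.of K))]

include hpb in
/-- The sequence defined by a rational point. -/
theorem exists_point_seq (hdim : topologicalKrullDim X = 1) (t : Spec (CommRingCat.of k) ⟶ X)
    (ht : t ≫ (X ↘ Spec (CommRingCat.of k)) = 𝟙 _) :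
    ∃ (I : X.Modules) (y : XK), PicF.IsInvertible I ∧ IsClosed ({y} : Set XK) ∧
      g ⁻¹' Set.range t = {y} ∧ ∀ {M : XK.Modules}, PicF.IsInvertible M →
        ∃ (S : ShortComplex XK.Modules), S.ShortExact ∧ S.X₂ = M ∧
          S.X₁ = CohB1.tensorMod ((Scheme.Modules.pullback g).obj I) M ∧
          CohB1.support S.X₃ ⊆ {y} ∧ Module.finrank K (Coh.HH XK S.X₃ 0) = 1 := by
  haveI := Euler.isNoetherian_of_proper (X := X) k
  haveI := Euler.isNoetherian_of_proper (X := XK) K
  obtain ⟨y, hyc, hy⟩ := exists_fibre hpb t ht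
  let q := X ↘ Spec (CommRingCat.of k)
  let z : ↥(Spec (CommRingCat.of k)) := IsLocalRing.closedPoint k
  haveI : IsClosedImmersion (t ≫ q) := by rw [ht]; infer_instance
  haveI : IsClosedImmersion t := .of_comp t q
  haveI : Subsingleton ↥(Spec (CommRingCat.of k)) := inferInstanceAs (Subsingleton (PrimeSpectrum k))
  have hxc : IsClosed ({t z} : Set X) := by
    have := t.isClosedEmbedding.isClosedMap _ (isClosed_discrete {z})
    rwa [Set.image_singleton] at this
  have hrange : Set.range t = {t z} := Set.range_eq_singleton_iff.2 fun w => congrArg t (Subsingleton.elim _ _)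
  have hreg := GrpSchField.isRegularLocalRing_stalk_of_smooth q hxc
  have hC := CurveMult.isEffCartierIdeal_point k hdim hxc hreg
  let J := Scheme.IdealSheafData.vanishingIdeal (⟨{t z}, hxc⟩ : Closeds X)
  have hI := IdealModSec.isInvertible_of_isEffCartier hC
  refine ⟨ClSub.idealMod J, y, hI, hyc, hy, fun {M} hM => ?_⟩
  haveI := Euler.epi_toSubscheme J
  let S := ShortComplex.mk (ClSub.idealModι J) (ClSub.toSubscheme J) (kernel.condition _)
  haveI : Mono S.f := inferInstanceAs (Mono (kernel.ι (ClSub.toSubscheme J)))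
  haveI : Epi S.g := Euler.epi_toSubscheme J
  have hS : S.ShortExact := { exact := ShortComplex.exact_of_f_is_kernel _ (kernelIsKernel _) }
  haveI : Flat (Spec.map (CommRingCat.ofHom (algebraMap k K))) := by
    rw [HasRingHomProperty.Spec_iff (P := @Flat)]
    show (algebraMap k K).Flat
    rw [RingHom.flat_algebraMap_iff]
    infer_instance
  haveI : Flat g := MorphismProperty.of_isPullback hpb.flip inferInstance
  haveI : (Scheme.Modules.pullback g).IsLeftAdjoint :=
    (Scheme.Modules.pullbackPushforwardAdjunction g).isLeftAdjoint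
  have hSg := EulerPull.shortExact_pullback g hS
  have hlf := FinCov.isFinLocFree_of_rank (Euler.isFinLocFreeOfRank_one' hM)
  have hT := OX.tensor_map_shortExact (OX.flat_of_isFinLocFree hlf) hSg
  let eL : (tF M).obj ((Scheme.Modules.pullback g).obj (Coh.structureModule X)) ≅ M :=
    (tF M).mapIso (OX.pullUnitIso g) ≪≫ OX.tensorUnitLeftIso M
  let P := ClSub.quotMod J
  have hP : Coh.IsCoh P := QCoh.pushUnit_isCoh J.subschemeι
  haveI := hP.1
  have hP' : Coh.IsCoh ((Scheme.Modules.pullback g).obj P) := ModDesc.isCoh_pullback g _ hP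
  have hsP : CohB1.support ((Scheme.Modules.pullback g).obj P) ⊆ {y} := by
    rw [QCoh.support_pullback g P hP, ← hy, hrange]
    refine Set.preimage_mono ((QCoh.support_pushforward_subset_range J.subschemeι _).trans ?_)
    rw [Scheme.IdealSheafData.range_subschemeι]
    simp [J]
  have hclP : ∀ w ∈ CohB1.support ((Scheme.Modules.pullback g).obj P), IsClosed ({w} : Set XK) :=
    fun w hw => (hsP hw : w = y) ▸ hyc
  have h0 : Module.finrank K (Coh.HH XK ((Scheme.Modules.pullback g).obj P) 0) = 1 := by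
    rw [CurveMult.finrank_HH_baseChange (algebraMap k K) g hpb P 0]
    exact CurveMult.finrank_H0_quotMod_rational k hxc (CurveMult.bijective_resMap_of_section k t ht z).2
  have hsQ : CohB1.support ((tF M).obj ((Scheme.Modules.pullback g).obj P)) ⊆ {y} :=
    (Euler.support_tF_subset (Euler.isFinLocFreeOfRank_one' hM)).trans hsP
  have hclQ : ∀ w ∈ CohB1.support ((tF M).obj ((Scheme.Modules.pullback g).obj P)), IsClosed ({w} : Set XK) :=
    fun w hw => (hsQ hw : w = y) ▸ hyc
  have e3 := Euler.euler_tF_of_finite_support K (Euler.isFinLocFreeOfRank_one' hM) hP'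
    ((Set.finite_singleton y).subset hsP) hclP
  rw [Euler.euler_eq_of_finite_support K _ ((Set.finite_singleton y).subset hsP) hclP,
    Euler.euler_eq_of_finite_support K _ ((Set.finite_singleton y).subset hsQ) hclQ, h0] at e3
  let T₀ := (S.map (Scheme.Modules.pullback g)).map (tF M)
  let T : ShortComplex XK.Modules := ShortComplex.mk (T₀.f ≫ eL.hom) (eL.inv ≫ T₀.g) (by
    simp only [Category.assoc, Iso.hom_inv_id_assoc]
    exact T₀.zero)
  refine ⟨T, ?_, rfl, rfl, hsQ, ?_⟩
  · exact ShortComplex.shortExact_of_iso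
      (ShortComplex.isoMk (S₁ := T₀) (S₂ := T) (Iso.refl _) eL (Iso.refl _) (by simp [T]) (by simp [T])) hT
  · simp only [Nat.cast_one, mul_one, one_mul] at e3
    exact_mod_cast e3

include hpb in
/-- Isomorphism bookkeeping for twists. -/
theorem nonempty_twist_iso {L : XK.Modules} (hL : PicF.IsInvertible L) {I N : X.Modules}
    (hI : PicF.IsInvertible I) (hN : PicF.IsInvertible N) :
    Nonempty (CohB1.tensorMod ((Scheme.Modules.pullback g).obj I)
      (CohB1.tensorMod L ((Scheme.Modules.pullback g).obj N)) ≅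
      CohB1.tensorMod L ((Scheme.Modules.pullback g).obj (CohB1.tensorMod I N))) := by
  let hgI := Ample.isInvertible_pullback g hI
  let hgN := Ample.isInvertible_pullback g hN
  let hIN := Ample.isInvertible_tensorMod hI hN
  let hgIN := Ample.isInvertible_pullback g hIN
  refine (Cube.clsMod_eq_iff (Ample.isInvertible_tensorMod hgI (Ample.isInvertible_tensorMod hL hgN))
    (Ample.isInvertible_tensorMod hL hgIN)).1 ?_
  rw [Cube.clsMod_tensorMod hgI (Ample.isInvertible_tensorMod hL hgN), Cube.clsMod_tensorMod hL hgN,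
    Cube.clsMod_tensorMod hL hgIN, Cube.clsMod_pullback g hI, Cube.clsMod_pullback g hN,
    Cube.clsMod_pullback g hIN, Cube.clsMod_tensorMod hI hN, map_mul]
  rw [mul_left_comm]

include hpb in
/-- A rational point in a nonempty open set. -/
theorem exists_section_mem [IsSepClosed k] (W : X.Opens) (hW : W ≠ ⊥) :
    ∃ t : Spec (CommRingCat.of k) ⟶ X, t ≫ (X ↘ Spec (CommRingCat.of k)) = 𝟙 _ ∧ Set.range t ⊆ W := by
  haveI : Nonempty W := by
    by_contra h
    exact hW (Opens.ext (Set.eq_empty_iff_forall_notMem.2 fun w hw => h ⟨⟨w, hw⟩⟩))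
  obtain ⟨s, hs⟩ := GrpSchField.exists_section_of_smooth (W.ι ≫ X ↘ Spec (CommRingCat.of k))
  refine ⟨s ≫ W.ι, by rw [Category.assoc]; exact hs, ?_⟩
  rintro _ ⟨w, rfl⟩
  exact (s w).2

include hpb in
/-- Lowering the number of sections. -/
theorem exists_drop [IsSepClosed k] (hdim : topologicalKrullDim X = 1) {L : XK.Modules}
    (hL : PicF.IsInvertible L) {N : X.Modules} (hN : PicF.IsInvertible N)
    (h1 : Subsingleton (Coh.HH XK (CohB1.tensorMod L ((Scheme.Modules.pullback g).obj N)) 1))
    (h0 : 0 < Module.finrank K (Coh.HH XK (CohB1.tensorMod L ((Scheme.Modules.pullback g).obj N)) 0)) :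
    ∃ N' : X.Modules, PicF.IsInvertible N' ∧
      Subsingleton (Coh.HH XK (CohB1.tensorMod L ((Scheme.Modules.pullback g).obj N')) 1) ∧
      Module.finrank K (Coh.HH XK (CohB1.tensorMod L ((Scheme.Modules.pullback g).obj N)) 0) =
        Module.finrank K (Coh.HH XK (CohB1.tensorMod L ((Scheme.Modules.pullback g).obj N')) 0) + 1 := by
  haveI := Euler.isNoetherian_of_proper (X := XK) K
  haveI : Smooth (XK ↘ Spec (CommRingCat.of K)) := MorphismProperty.of_isPullback hpb inferInstance
  haveI : IsReduced XK := Rigidity.isReduced_of_smooth (XK ↘ Spec (CommRingCat.of K))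
  obtain ⟨M, hMe⟩ : ∃ M, M = CohB1.tensorMod L ((Scheme.Modules.pullback g).obj N) := ⟨_, rfl⟩
  rw [← hMe] at h1 h0 ⊢
  have hM : PicF.IsInvertible M := hMe ▸ Ample.isInvertible_tensorMod hL (Ample.isInvertible_pullback g hN)
  haveI : Nontrivial (Coh.HH XK M 0) := Module.nontrivial_of_finrank_pos (R := K) h0
  obtain ⟨z, hz⟩ := exists_ne (0 : Coh.HH XK M 0)
  let s := FinCov.homOfSection (ProjCoh.H0top M z)
  have hs0 : s ≠ 0 := fun h => hz ((ProjCoh.H0top M).injective (by
    have hsval : s.app ⊤ (FinCov.one XK ⊤) = ProjCoh.H0top M z :=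
      (FinCov.homOfSection_one _ ⊤).trans (InvExt.mres_self M _)
    rw [← hsval, h, map_zero]; rfl))
  have hW := Cube.genLocus_ne_bot hM s hs0
  haveI : UniversallyOpen g := MorphismProperty.of_isPullback hpb.flip inferInstance
  let W : X.Opens := ⟨g '' (CohB1.genLocus M s : Set XK), g.isOpenMap _ (CohB1.genLocus M s).2⟩
  have hW' : W ≠ ⊥ := by
    intro h
    refine hW (Opens.ext (Set.eq_empty_iff_forall_notMem.2 fun w hw => ?_))
    have : g w ∈ (W : Set X) := ⟨w, hw, rfl⟩
    rw [h] at this
    exact this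
  obtain ⟨t, ht, htW⟩ := exists_section_mem (hpb := hpb) W hW'
  obtain ⟨I, y, hI, hyc, hy, hseq⟩ := exists_point_seq hpb hdim t ht
  have hyW : y ∈ CohB1.genLocus M s := by
    obtain ⟨w, hw, hwx⟩ := htW ⟨IsLocalRing.closedPoint k, rfl⟩
    have : w ∈ g ⁻¹' Set.range t := by
      show g w ∈ Set.range t
      rw [hwx]; exact ⟨_, rfl⟩
    rw [hy] at this
    exact (Set.mem_singleton_iff.1 this) ▸ hw
  obtain ⟨S, hS, h₂, h₁, hsupp, hQ⟩ := hseq hM
  subst h₂
  obtain ⟨e1, e2⟩ := drop_one K hS (Euler.isCoh_of_isInvertible hM) hyc hsupp hQ h1 z hyW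
  rw [h₁, hMe] at e1 e2
  rw [hMe]
  obtain ⟨i⟩ := nonempty_twist_iso hpb hL hI hN
  refine ⟨_, Ample.isInvertible_tensorMod hI hN, ?_, ?_⟩
  · exact (Euler.hhEquiv (A := K) i 1).toEquiv.symm.subsingleton
  · rw [← (Euler.hhEquiv (A := K) i 0).finrank_eq]
    exact e2

include hpb in
/-- A non-special twist with a section. -/
theorem exists_start [IsSepClosed k] (hdim : topologicalKrullDim X = 1) {L : XK.Modules}
    (hL : PicF.IsInvertible L) :
    ∃ N : X.Modules, PicF.IsInvertible N ∧
      Subsingleton (Coh.HH XK (CohB1.tensorMod L ((Scheme.Modules.pullback g).obj N)) 1) ∧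
      0 < Module.finrank K (Coh.HH XK (CohB1.tensorMod L ((Scheme.Modules.pullback g).obj N)) 0) := by
  haveI := Euler.isNoetherian_of_proper (X := X) k
  haveI := Euler.isNoetherian_of_proper (X := XK) K
  obtain ⟨t, ht, -⟩ := exists_section_mem (hpb := hpb) (⊤ : X.Opens) (by
    intro h
    have : genericPoint X ∈ ((⊤ : X.Opens) : Set X) := trivial
    rw [h] at this
    exact this)
  obtain ⟨I, y, hI, hyc, hy, hseq⟩ := exists_point_seq hpb hdim t ht
  obtain ⟨c, -, hc, -⟩ := Euler.exists_ample_of_proper (X := X) k hdim.le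
  haveI : IsAffineHom g := MorphismProperty.of_isPullback hpb.flip inferInstance
  have hcK := HilbFlat10.isAmp_comap g ((c.isAmple_iff (Iso.refl _)).1 hc).2
  have hdK : topologicalKrullDim XK ≤ 1 := by
    let e := hpb.flip.isoPullback
    have h := CurveLocus.topologicalKrullDim_pullback (X ↘ Spec (CommRingCat.of k)) K
    rw [hdim] at h
    exact ((Scheme.homeoOfIso e).isClosedEmbedding.isInducing.topologicalKrullDim_le).trans h.le
  let c' := c.comap g
  have hA : CohB1.IsAmple (c'.twist 1) := (c'.isAmple_iff (Iso.refl _)).2 ⟨inferInstance, hcK⟩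
  let F := CohB1.tensorMod ((Scheme.Modules.pullback g).obj I) L
  have hF : PicF.IsInvertible F := Ample.isInvertible_tensorMod (Ample.isInvertible_pullback g hI) hL
  obtain ⟨n₀, hn₀⟩ := Euler.eventually_H1_zero K c' (Euler.isCoh_of_isInvertible hF) fun Z i hi hZ _ => by
    refine ⟨(i.isClosedEmbedding.isInducing.topologicalKrullDim_le).trans hdK, fun hZ1 => ?_⟩
    obtain ⟨ei⟩ := c'.nonempty_pullback_twist i 1
    letI : Z.Over (Spec (CommRingCat.of K)) := ⟨i ≫ XK ↘ Spec (CommRingCat.of K)⟩
    rw [← Euler.deg_of_iso K ei]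
    exact (Euler.deg_pos_iff_isAmple_pullback K i hZ1 (c'.isInvertible_twist 1)).2
      (Ample.isAmple_pullback_of_isAffineHom i hA)
  let A := c.twist n₀
  have hA' : PicF.IsInvertible A := c.isInvertible_twist n₀
  let M := CohB1.tensorMod L ((Scheme.Modules.pullback g).obj A)
  have hM : PicF.IsInvertible M := Ample.isInvertible_tensorMod hL (Ample.isInvertible_pullback g hA')
  obtain ⟨S, hS, h₂, h₁, hsupp, hQ⟩ := hseq hM
  obtain ⟨eA⟩ := c.nonempty_pullback_twist g n₀
  obtain ⟨em⟩ := c'.nonempty_tensor_modTwist F n₀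
  have hgI := Ample.isInvertible_pullback g hI
  have hgA := Ample.isInvertible_pullback g hA'
  have hiso : Nonempty (CohB1.tensorMod ((Scheme.Modules.pullback g).obj I) M ≅ c'.modTwist F n₀) := by
    refine ⟨?_ ≪≫ em⟩
    refine ((Cube.clsMod_eq_iff (Ample.isInvertible_tensorMod hgI hM)
      (Ample.isInvertible_tensorMod hF (c'.isInvertible_twist n₀))).1 ?_).some
    rw [Cube.clsMod_tensorMod hgI hM, Cube.clsMod_tensorMod hL hgA, Cube.clsMod_tensorMod hF (c'.isInvertible_twist n₀),
      Cube.clsMod_tensorMod hgI hL, (Cube.clsMod_eq_iff hgA (c'.isInvertible_twist n₀)).2 ⟨eA⟩, mul_assoc]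
  obtain ⟨i⟩ := hiso
  haveI := hn₀ n₀ le_rfl
  obtain ⟨e1, e2⟩ := raise_one K hS (by rw [h₂]; exact Euler.isCoh_of_isInvertible hM) hyc hsupp hQ
    (by rw [h₁]; exact (Euler.hhEquiv (A := K) i 1).toEquiv.subsingleton)
  rw [h₂] at e1 e2
  exact ⟨A, hA', e1, by rw [e2]; exact Nat.succ_pos _⟩

include hpb in
/-- The main result. -/
theorem exists_one [IsSepClosed k] (hdim : topologicalKrullDim X = 1) {L : XK.Modules}
    (hL : PicF.IsInvertible L) :
    ∃ N : X.Modules, PicF.IsInvertible N ∧
      Module.finrank K (Coh.HH XK (CohB1.tensorMod L ((Scheme.Modules.pullback g).obj N)) 0) = 1 ∧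
      Subsingleton (Coh.HH XK (CohB1.tensorMod L ((Scheme.Modules.pullback g).obj N)) 1) := by
  have key : ∀ (d : ℕ) (N : X.Modules), PicF.IsInvertible N →
      Subsingleton (Coh.HH XK (CohB1.tensorMod L ((Scheme.Modules.pullback g).obj N)) 1) →
      Module.finrank K (Coh.HH XK (CohB1.tensorMod L ((Scheme.Modules.pullback g).obj N)) 0) = d + 1 →
      ∃ N : X.Modules, PicF.IsInvertible N ∧
        Module.finrank K (Coh.HH XK (CohB1.tensorMod L ((Scheme.Modules.pullback g).obj N)) 0) = 1 ∧
        Subsingleton (Coh.HH XK (CohB1.tensorMod L ((Scheme.Modules.pullback g).obj N)) 1) := by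
    intro d
    induction d with
    | zero => exact fun N hN h1 h0 => ⟨N, hN, h0, h1⟩
    | succ d ih =>
      intro N hN h1 h0
      obtain ⟨N', hN', h1', he⟩ := exists_drop hpb hdim hL hN h1 (by omega)
      exact ih N' hN' h1' (by omega)
  obtain ⟨N, hN, h1, h0⟩ := exists_start hpb hdim hL
  obtain ⟨d, hd⟩ := Nat.exists_eq_succ_of_ne_zero h0.ne'
  exact key d N hN h1 hd

end GrothLib.CurveTwist26
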